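import Groth.Agent.Lib.FlatStrat.Good
import Groth.Agent.Lib.Nagata6.ExtendIdeal
import Groth.Agent.Lib.FgSupport6.Exists

/-! # The generic flatness stratification -/

set_option autoImplicit false
set_option linter.style.haveILetI false
set_option maxHeartbeats 1000000
universe u

open CategoryTheory CategoryTheory.Limits AlgebraicGeometry TopologicalSpace

namespace GrothLib.FlatStrat

variable {X S : Scheme.{u}} (f : X ⟶ S) (F : X.Modules)

/-- The inclusion of `V(K) ∖ V(L)`. -/
noncomputable abbrev stratumι (K L : S.IdealSheafData) :=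
  (K.subschemeι ⁻¹ᵁ L.support.compl).ι ≫ K.subschemeι

/-- `F` is flat on `V(K) ∖ V(L)`. -/
def SStep (K L : S.IdealSheafData) : Prop :=
  K ≤ L ∧ (∀ U : S.affineOpens, (K.ideal U).FG) ∧ (∀ U : S.affineOpens, (L.ideal U).FG) ∧
    FlatMod.IsFlatOver (pullback.snd f (stratumι K L))
      ((Scheme.Modules.pullback (pullback.fst f (stratumι K L))).obj F)

theorem stratumι_mem (K L : S.IdealSheafData) (t : ↥(K.subschemeι ⁻¹ᵁ L.support.compl)) :
    stratumι K L t ∈ K.support ∧ stratumι K L t ∉ L.support := by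
  have h := t.2
  refine ⟨?_, ?_⟩
  · show stratumι K L t ∈ (K.support : Set S)
    rw [← K.range_subschemeι]
    exact ⟨_, rfl⟩
  · exact h

theorem sStep_of_empty {K L : S.IdealSheafData} (hle : K ≤ L) (hK : ∀ U : S.affineOpens, (K.ideal U).FG)
    (hL : ∀ U : S.affineOpens, (L.ideal U).FG) (h : (K.support : Set S) ⊆ L.support) : SStep f F K L :=
  ⟨hle, hK, hL, fun x => by
    obtain ⟨h1, h2⟩ := stratumι_mem K L (pullback.snd f (stratumι K L) x)
    exact absurd (h h1) h2⟩

theorem map_appLE_stratum {K L : S.IdealSheafData} {V : S.affineOpens}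
    {W : (K.subschemeι ⁻¹ᵁ L.support.compl).toScheme.Opens} (hW : IsAffineOpen W)
    (e : W ≤ stratumι K L ⁻¹ᵁ V.1) :
    (K.ideal V).map ((stratumι K L).appLE V.1 W e).hom = ⊥ ∧
      (L.ideal V).map ((stratumι K L).appLE V.1 W e).hom = ⊤ := by
  constructor
  · rw [eq_bot_iff, Ideal.map_le_iff_le_comap]
    intro a ha
    have hker : K ≤ (stratumι K L).ker := K.ker_subschemeι.ge.trans (Scheme.Hom.le_ker_comp _ _)
    have h0 : (stratumι K L).app V.1 a = 0 := (Scheme.Hom.ideal_ker_le _ V) (hker V ha)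
    show (stratumι K L).appLE V.1 W e a = 0
    rw [Scheme.Hom.appLE, CommRingCat.comp_apply, h0, map_zero]
  · rw [← GrothLib.BlowUp.ideal_comap_eq_map L (stratumι K L) V ⟨W, hW⟩ e]
    have h : L.comap (stratumι K L) = ⊤ := by
      rw [← Scheme.IdealSheafData.support_eq_bot_iff, Scheme.IdealSheafData.support_comap]
      ext1; ext t
      simp only [Closeds.coe_preimage, Set.mem_preimage, Closeds.coe_bot, Set.mem_empty_iff_false, iff_false]
      exact (stratumι_mem K L t).2
    rw [h]
    rfl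

theorem sStep_of_piece [F.IsQuasicoherent] {K L : S.IdealSheafData} (hle : K ≤ L)
    (hK : ∀ U : S.affineOpens, (K.ideal U).FG) (hL : ∀ U : S.affineOpens, (L.ideal U).FG) (V : S.affineOpens)
    (hV : (K.support : Set S) \ L.support ⊆ V.1)
    (s : Finset {U : X.affineOpens // U.1 ≤ f ⁻¹ᵁ V.1}) (hs : ∀ x ∈ f ⁻¹ᵁ V.1, ∃ U ∈ s, x ∈ U.1.1)
    (h : Piece (chartC f F V.1 s) (K.ideal V) (L.ideal V)) : SStep f F K L := by
  refine ⟨hle, hK, hL, fun x => ?_⟩
  obtain ⟨h1, h2⟩ := stratumι_mem K L (pullback.snd f (stratumι K L) x)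
  obtain ⟨W, hW, hxW, e⟩ := exists_isAffineOpen_mem_and_subset
    (show pullback.snd f (stratumι K L) x ∈ stratumι K L ⁻¹ᵁ V.1 from hV ⟨h1, h2⟩)
  letI : Algebra Γ(S, V.1) Γ((K.subschemeι ⁻¹ᵁ L.support.compl).toScheme, W) :=
    ((stratumι K L).appLE V.1 W e).hom.toAlgebra
  obtain ⟨hb, ht⟩ := map_appLE_stratum hW e
  exact isFlatOverAt_of_chartC f F _ V.2 s hs hW e (h _ hb ht) x hxW

theorem exists_ideal_extension [CompactSpace S] [QuasiSeparatedSpace S] (V : S.affineOpens) (I : Ideal Γ(S, V.1))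
    (hI : I.FG) : ∃ E : S.IdealSheafData, (∀ U : S.affineOpens, (E.ideal U).FG) ∧ E.ideal V = I := by
  classical
  haveI : IsAffine V.1.toScheme := V.2
  let Vt : V.1.toScheme.affineOpens := ⟨⊤, isAffineOpen_top _⟩
  let φ := (V.1.ι.appLE V.1 ⊤ (by simp)).hom
  have hb : Function.Bijective φ := by
    have : IsIso (V.1.ι.app V.1) := V.1.ι.isIso_app _ (by simp)
    have e : (⊤ : V.1.toScheme.Opens) = V.1.ι ⁻¹ᵁ V.1 := by simp
    have : IsIso (V.1.ι.appLE V.1 ⊤ (by simp)) := by
      rw [Scheme.Hom.appLE, Subsingleton.elim (homOfLE _).op (eqToHom (congrArg Opposite.op e.symm))]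
      infer_instance
    exact ConcreteCategory.bijective_of_isIso (V.1.ι.appLE V.1 ⊤ _)
  let I' : V.1.toScheme.IdealSheafData := Scheme.IdealSheafData.ofIdealTop (I.map φ)
  have htop : I'.ideal Vt = I.map φ := by
    simp [I', Vt]
    exact Ideal.map_id _
  obtain ⟨E, hE, hEI⟩ := Nagata6.exists_extension (X := S) ⊥ V.1 (by simp) V.2.isCompact I'
    ⟨fun U => FgSupport6.fg_of_cover I' (fun _ : PUnit.{u + 1} => Vt) (fun _ => ⟨⟨⟩, trivial⟩)
      (fun _ => htop ▸ hI.map φ) U, by simp⟩
  refine ⟨E, hE.1, ?_⟩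
  have h1 : (E.ideal V).map φ = I.map φ := by
    rw [← htop, ← hEI, GrothLib.BlowUp.ideal_comap_eq_map E V.1.ι V Vt (by simp [Vt])]
  rw [← Ideal.comap_map_of_bijective φ hb (I := E.ideal V), h1, Ideal.comap_map_of_bijective φ hb]

theorem exists_chain [CompactSpace S] [QuasiSeparatedSpace S] [F.IsQuasicoherent] [LocallyOfFinitePresentation f]
    [QuasiCompact f] (hfp : CohB1.IsFP F) (O : Finset S.affineOpens) :
    ∃ I₀ L : S.IdealSheafData, (I₀.support : Set S) = Set.univ ∧ (∀ U : S.affineOpens, (I₀.ideal U).FG) ∧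
      (∀ U : S.affineOpens, (L.ideal U).FG) ∧
      (L.support : Set S) = (⋃ V ∈ O, (V.1 : Set S))ᶜ ∧ Relation.ReflTransGen (SStep f F) I₀ L := by
  classical
  induction O using Finset.induction with
  | empty =>
    exact ⟨⊥, ⊥, by simp, fun U => ⟨∅, by simp⟩, fun U => ⟨∅, by simp⟩,
      by simp, .refl⟩
  | @insert V O hVO ih =>
    obtain ⟨I₀, L, hs₀, hI₀, hL, hLs, hch⟩ := ih
    obtain ⟨J, hJ, hJs⟩ := FgSupport6.exists_fg_support_eq V.1 V.2.isCompact
    obtain ⟨s, hs⟩ := exists_charts f V.2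
    obtain ⟨A, hA, hAn, hAc⟩ := hasChain_chartC f F hfp V.2 s
    have hJV : J.ideal V = ⊤ := Nagata6.ideal_eq_top_of_disjoint J V (by
      rw [hJs]; exact Set.disjoint_left.2 fun x hx h => h hx)
    have hfg : ∀ E : S.IdealSheafData, (∀ U : S.affineOpens, (E.ideal U).FG) →
        ∀ U : S.affineOpens, ((L ⊔ E * J).ideal U).FG := fun E hE U => by
      rw [Scheme.IdealSheafData.ideal_sup, Pi.sup_apply, Scheme.IdealSheafData.ideal_mul, Pi.mul_apply]
      exact Submodule.FG.sup (hL U) (Submodule.FG.mul (hE U) (hJ U))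
    have hloc : ∀ E : S.IdealSheafData, (L ⊔ E * J).ideal V = L.ideal V ⊔ E.ideal V := fun E => by
      rw [Scheme.IdealSheafData.ideal_sup, Pi.sup_apply, Scheme.IdealSheafData.ideal_mul, Pi.mul_apply, hJV,
        Ideal.mul_top]
    have hmono : ∀ E E' : S.IdealSheafData, E ≤ E' → L ⊔ E * J ≤ L ⊔ E' * J := fun E E' h U => by
      simp only [Scheme.IdealSheafData.ideal_sup, Pi.sup_apply, Scheme.IdealSheafData.ideal_mul, Pi.mul_apply]
      exact sup_le_sup_left (Ideal.mul_mono_left (h U)) _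
    have hLJ : ∀ U : S.affineOpens, ((L ⊔ J).ideal U).FG := fun U => by
      rw [Scheme.IdealSheafData.ideal_sup, Pi.sup_apply]
      exact Submodule.FG.sup (hL U) (hJ U)
    have key : ∀ I : Ideal Γ(S, V.1), Relation.ReflTransGen (Step (chartC f F V.1 s)) I ⊤ →
        ∀ E : S.IdealSheafData, (∀ U : S.affineOpens, (E.ideal U).FG) → E.ideal V = I →
          Relation.ReflTransGen (SStep f F) (L ⊔ E * J) (L ⊔ J) := by
      intro I hI
      induction hI using Relation.ReflTransGen.head_induction_on with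
      | refl =>
        intro E hE hEV
        refine Relation.ReflTransGen.single (sStep_of_empty f F ?_ (hfg E hE) hLJ ?_)
        · intro U
          simp only [Scheme.IdealSheafData.ideal_sup, Pi.sup_apply, Scheme.IdealSheafData.ideal_mul, Pi.mul_apply]
          exact sup_le_sup_left Ideal.mul_le_right _
        · rintro x hx
          simp only [Scheme.IdealSheafData.support_sup, Scheme.IdealSheafData.support_mul, Closeds.coe_inf,
            Closeds.coe_sup, Set.mem_inter_iff, Set.mem_union] at hx ⊢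
          refine ⟨hx.1, hx.2.elim (fun hxE => ?_) id⟩
          by_contra hxJ
          have hxV : x ∈ V.1 := by rw [hJs] at hxJ; simpa using hxJ
          have := (Scheme.IdealSheafData.mem_support_iff_of_mem (U := V) hxV).mp hxE
          rw [hEV, Scheme.mem_zeroLocus_iff] at this
          exact this 1 trivial (by simpa using hxV)
      | @head I I' hII' _ ih =>
        intro E hE hEV
        obtain ⟨hle, -, hI'fg, hP⟩ := hII'
        obtain ⟨E', hE', hE'V⟩ := exists_ideal_extension V I' hI'fg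
        have hfgE : ∀ U : S.affineOpens, ((E ⊔ E').ideal U).FG := fun U => by
          rw [Scheme.IdealSheafData.ideal_sup, Pi.sup_apply]
          exact Submodule.FG.sup (hE U) (hE' U)
        have hEE : (E ⊔ E').ideal V = I' := by
          rw [Scheme.IdealSheafData.ideal_sup, Pi.sup_apply, hEV, hE'V, sup_eq_right.2 hle]
        refine Relation.ReflTransGen.head ?_ (ih (E ⊔ E') hfgE hEE)
        refine sStep_of_piece f F (hmono _ _ le_sup_left) (hfg E hE) (hfg _ hfgE) V ?_ s hs ?_
        · rintro x ⟨hx, hx'⟩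
          simp only [Scheme.IdealSheafData.support_sup, Scheme.IdealSheafData.support_mul, Closeds.coe_inf,
            Closeds.coe_sup, Set.mem_inter_iff, Set.mem_union] at hx hx'
          by_contra hxV
          exact hx' ⟨hx.1, Or.inr (hJs.ge hxV)⟩
        · rw [hloc, hloc, hEV, hEE]
          intro R' _ _ h1 h2
          rw [Ideal.map_sup, sup_eq_bot_iff] at h1
          rw [Ideal.map_sup, h1.1, bot_sup_eq] at h2
          exact hP R' h1.2 h2
    obtain ⟨E, hE, hEV⟩ := exists_ideal_extension V A hA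
    refine ⟨I₀, L ⊔ J, hs₀, hI₀, hLJ, ?_,
      hch.trans (Relation.ReflTransGen.head (sStep_of_empty f F le_sup_left hL (hfg E hE) ?_) (key A hAc E hE hEV))⟩
    · rw [Scheme.IdealSheafData.support_sup, Closeds.coe_inf, hLs, hJs]
      ext x
      simp only [Finset.set_biUnion_insert, Set.compl_union, Set.mem_inter_iff]
      exact And.comm
    · intro x hx
      simp only [Scheme.IdealSheafData.support_sup, Scheme.IdealSheafData.support_mul, Closeds.coe_inf,
        Closeds.coe_sup, Set.mem_inter_iff, Set.mem_union]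
      refine ⟨hx, ?_⟩
      by_cases hxV : x ∈ V.1
      · refine Or.inl ((Scheme.IdealSheafData.mem_support_iff_of_mem (U := V) hxV).mpr ?_)
        rw [hEV, Scheme.mem_zeroLocus_iff]
        intro a ha hxa
        exact ((mem_nilradical.1 (hAn ha)).map (S.presheaf.germ V.1 x hxV).hom).not_isUnit
          ((S.mem_basicOpen _ x hxV).1 hxa)
      · exact Or.inr (hJs.ge hxV)

theorem exists_fin_of_reflTransGen {α : Type*} [Preorder α] {r : α → α → Prop} (hr : ∀ a b, r a b → a ≤ b) {a b : α}
    (h : Relation.ReflTransGen r a b) :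
    ∃ (t : ℕ) (I : Fin (t + 1) → α), Monotone I ∧ I 0 = a ∧ I (Fin.last t) = b ∧
      ∀ i : Fin t, r (I i.castSucc) (I i.succ) := by
  induction h using Relation.ReflTransGen.head_induction_on with
  | refl => exact ⟨0, fun _ => b, monotone_const, rfl, rfl, fun i => i.elim0⟩
  | @head a c hac _ ih =>
    obtain ⟨t, I, -, h0, hl, hs⟩ := ih
    refine ⟨t + 1, Fin.cons a I, ?_, by simp, by simpa [← Fin.succ_last] using hl, ?_⟩
    · refine Fin.monotone_iff_le_succ.2 fun i => ?_
      refine Fin.cases ?_ (fun j => ?_) i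
      · simpa [h0] using hr _ _ hac
      · simpa [← Fin.succ_castSucc] using hr _ _ (hs j)
    · intro i
      refine Fin.cases ?_ (fun j => ?_) i
      · simpa [h0] using hac
      · simpa [← Fin.succ_castSucc] using hs j

/-- **Generic flatness stratification.** -/
theorem exists_stratification [CompactSpace S] [QuasiSeparatedSpace S] [F.IsQuasicoherent]
    [LocallyOfFinitePresentation f] [QuasiCompact f] (hfp : CohB1.IsFP F) :
    ∃ (t : ℕ) (I : Fin (t + 1) → S.IdealSheafData), Monotone I ∧ I (Fin.last t) = ⊤ ∧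
      ((I 0).support : Set S) = Set.univ ∧ (∀ i, ∀ U : S.affineOpens, ((I i).ideal U).FG) ∧
      ∀ i : Fin t, SStep f F (I i.castSucc) (I i.succ) := by
  classical
  let 𝒰 := S.affineCover.finiteSubcover
  obtain ⟨I₀, L, hs₀, hfg₀, -, hLs, hch⟩ := exists_chain f F hfp
    (Finset.univ.image fun i : 𝒰.I₀ => (⟨(𝒰.f i).opensRange, isAffineOpen_opensRange _⟩ : S.affineOpens))
  obtain rfl : L = ⊤ := (Scheme.IdealSheafData.support_eq_bot_iff (I := L)).1 (Closeds.ext (by
    rw [hLs, Closeds.coe_bot, Set.compl_empty_iff]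
    refine Set.eq_univ_of_forall fun x => ?_
    exact Set.mem_biUnion (Finset.mem_image_of_mem _ (Finset.mem_univ (𝒰.idx x))) (𝒰.covers x)))
  obtain ⟨t, I, hm, h0, hl, hs⟩ := exists_fin_of_reflTransGen (fun _ _ h => h.1) hch
  refine ⟨t, I, hm, hl, h0 ▸ hs₀, fun i => ?_, hs⟩
  cases i using Fin.cases with
  | zero => exact h0 ▸ hfg₀
  | succ j => exact (hs j).2.2.1

end GrothLib.FlatStrat
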