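import Groth.Agent.Lib.FlatStrat.Ring
import Groth.Agent.Lib.FlatDesc.Basic
import Groth.Agent.Lib.FlatFP.Sheaf
import Groth.Agent.Lib.FittSheaf.Basic

/-! # Flatness of a base change from flatness on charts -/

set_option autoImplicit false
set_option linter.style.haveILetI false
set_option maxHeartbeats 1000000
universe u

open CategoryTheory CategoryTheory.Limits AlgebraicGeometry TensorProduct TopologicalSpace

namespace GrothLib.FlatStrat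

/-- A base change is flat over the new base where it is flat on affine sections. -/
theorem isFlatOverAt_of_flat_tensor {X Y X' Y' : Scheme.{u}} {f : X ⟶ Y} {g : Y' ⟶ Y} {p : X' ⟶ X} {q : X' ⟶ Y'}
    (sq : IsPullback p q f g) (M : X.Modules) [M.IsQuasicoherent] {V₀ : Y.Opens} (hV₀ : IsAffineOpen V₀)
    {U₀ : X.Opens} (hU₀ : IsAffineOpen U₀) (eU : U₀ ≤ f ⁻¹ᵁ V₀) {V : Y'.Opens} (hV : IsAffineOpen V)
    (eV : V ≤ g ⁻¹ᵁ V₀) (x : X') (hxU₀ : p x ∈ U₀) (hxV : q x ∈ V)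
    (h : letI : Algebra Γ(Y, V₀) Γ(Y', V) := (g.appLE V₀ V eV).hom.toAlgebra
      letI : Module Γ(Y, V₀) Γ(M, U₀) := Module.compHom _ (f.appLE V₀ U₀ eU).hom
      Module.Flat Γ(Y', V) (Γ(Y', V) ⊗[Γ(Y, V₀)] Γ(M, U₀))) :
    FlatMod.IsFlatOverAt q ((Scheme.Modules.pullback p).obj M) x := by
  let U := p ⁻¹ᵁ U₀ ⊓ q ⁻¹ᵁ V
  have hU : IsAffineOpen U := FlatLimit.isAffineOpen_square sq eV eU hV₀ hV hU₀
  have hx : x ∈ U := ⟨hxU₀, hxV⟩
  letI : Algebra Γ(Y, V₀) Γ(Y', V) := (g.appLE V₀ V eV).hom.toAlgebra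
  let : Algebra Γ(Y, V₀) Γ(X, U₀) := (f.appLE V₀ U₀ eU).hom.toAlgebra
  let : Algebra Γ(Y', V) Γ(X', U) := (q.appLE V U inf_le_right).hom.toAlgebra
  let : Algebra Γ(X, U₀) Γ(X', U) := (p.appLE U₀ U inf_le_left).hom.toAlgebra
  let : Algebra Γ(Y, V₀) Γ(X', U) :=
    ((algebraMap Γ(Y', V) Γ(X', U)).comp (algebraMap Γ(Y, V₀) Γ(Y', V))).toAlgebra
  have : IsScalarTower Γ(Y, V₀) Γ(Y', V) Γ(X', U) := IsScalarTower.of_algebraMap_eq' rfl
  have : IsScalarTower Γ(Y, V₀) Γ(X, U₀) Γ(X', U) := IsScalarTower.of_algebraMap_eq' (by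
    show ((q.appLE V U inf_le_right).hom.comp (g.appLE V₀ V eV).hom) =
      (p.appLE U₀ U inf_le_left).hom.comp (f.appLE V₀ U₀ eU).hom
    rw [← CommRingCat.hom_comp, ← CommRingCat.hom_comp, Scheme.Hom.appLE_comp_appLE, Scheme.Hom.appLE_comp_appLE]
    congr 2
    exact sq.w.symm)
  have hpush : Algebra.IsPushout Γ(Y, V₀) Γ(Y', V) Γ(X, U₀) Γ(X', U) :=
    FlatLimit.isPushout_square sq eV eU hV₀ hV hU₀ rfl rfl rfl rfl
  letI : Module Γ(Y, V₀) Γ(M, U₀) := Module.compHom _ (f.appLE V₀ U₀ eU).hom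
  have : IsScalarTower Γ(Y, V₀) Γ(X, U₀) Γ(M, U₀) := IsScalarTower.of_algebraMap_smul fun _ _ => rfl
  have : Module.Flat Γ(Y', V) (Γ(Y', V) ⊗[Γ(Y, V₀)] Γ(M, U₀)) := h
  refine (FlatFP.isFlatOverAt_pullback_iff q p M hU₀ hV hU inf_le_left inf_le_right hx rfl rfl).2 ?_
  have : SMulCommClass Γ(X, U₀) Γ(Y', V) Γ(X', U) := ⟨fun a b x => by
    rw [Algebra.smul_def a, Algebra.smul_def b, Algebra.smul_def b, Algebra.smul_def a]
    exact mul_left_comm _ _ _⟩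
  have : IsScalarTower Γ(Y', V) Γ(X', U) (Γ(X', U) ⊗[Γ(X, U₀)] Γ(M, U₀)) := TensorProduct.isScalarTower_left
  have hb : Module.Flat Γ(Y', V) (Γ(X', U) ⊗[Γ(X, U₀)] Γ(M, U₀)) :=
    Module.Flat.of_linearEquiv (Algebra.IsPushout.cancelBaseChange Γ(Y, V₀) Γ(Y', V) Γ(X, U₀) Γ(X', U) Γ(M, U₀))
  let P := (WeakAss.primeAt x hx).primeCompl
  have : Module.Flat Γ(Y', V) (Localization P ⊗[Γ(X', U)] (Γ(X', U) ⊗[Γ(X, U₀)] Γ(M, U₀))) := by
    have : Module.Flat Γ(X', U) (Localization P) := IsLocalization.flat _ P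
    exact FlatDesc.flat_tensor
  exact Module.Flat.of_linearEquiv ((LocalizedModule.equivTensorProduct P _).restrictScalars Γ(Y', V))

variable {X S : Scheme.{u}} (f : X ⟶ S) (F : X.Modules)

/-- Flatness on all the charts over `V`. -/
def chartC (V : S.Opens) (s : Finset {U : X.affineOpens // U.1 ≤ f ⁻¹ᵁ V}) : AlgProp Γ(S, V) :=
  fun R' [CommRing R'] [Algebra Γ(S, V) R'] => ∀ U ∈ s,
    letI : Module Γ(S, V) Γ(F, U.1.1) := Module.compHom _ (f.appLE V U.1.1 U.2).hom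
    Module.Flat R' (R' ⊗[Γ(S, V)] Γ(F, U.1.1))

theorem hasChain_chartC [F.IsQuasicoherent] [LocallyOfFinitePresentation f] (hfp : CohB1.IsFP F) {V : S.Opens}
    (hV : IsAffineOpen V) (s : Finset {U : X.affineOpens // U.1 ≤ f ⁻¹ᵁ V}) : HasChain (chartC f F V s) := by
  classical
  induction s using Finset.induction with
  | empty =>
    exact ⟨⊥, Submodule.fg_bot, bot_le, Relation.ReflTransGen.single
      ⟨bot_le, Submodule.fg_bot, ⟨{1}, by simp⟩, fun R' _ _ _ _ U hU => absurd hU (Finset.notMem_empty U)⟩⟩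
  | @insert U s hU ih =>
    letI : Algebra Γ(S, V) Γ(X, U.1.1) := (f.appLE V U.1.1 U.2).hom.toAlgebra
    letI : Module Γ(S, V) Γ(F, U.1.1) := Module.compHom _ (f.appLE V U.1.1 U.2).hom
    haveI : IsScalarTower Γ(S, V) Γ(X, U.1.1) Γ(F, U.1.1) := IsScalarTower.of_algebraMap_smul fun _ _ => rfl
    haveI : Algebra.FinitePresentation Γ(S, V) Γ(X, U.1.1) :=
      HasRingHomProperty.appLE @LocallyOfFinitePresentation f ‹_› ⟨V, hV⟩ U.1 U.2
    haveI := FlatFP.finitePresentation_sections F hfp U.1.2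
    have hz : ZeroOK (chartC f F V s) := fun R' _ _ _ W _ => Module.Flat.of_free
    obtain ⟨I₀, h₁, h₂, h₃⟩ := HasChain.and (zeroOK_flatC (R := Γ(S, V)) Γ(F, U.1.1)) hz
      (hasChain_fp (R := Γ(S, V)) Γ(X, U.1.1) Γ(F, U.1.1)) ih
    refine ⟨I₀, h₁, h₂, h₃.lift id fun I J h => ?_⟩
    refine ⟨h.1, h.2.1, h.2.2.1, fun R' _ _ a b W hW => ?_⟩
    rcases Finset.mem_insert.1 hW with rfl | hW
    · exact (h.2.2.2 R' a b).1
    · exact (h.2.2.2 R' a b).2 W hW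

/-- The charts detect flatness of base changes. -/
theorem isFlatOverAt_of_chartC [F.IsQuasicoherent] {T : Scheme.{u}} (u : T ⟶ S) {V : S.Opens} (hV : IsAffineOpen V)
    (s : Finset {U : X.affineOpens // U.1 ≤ f ⁻¹ᵁ V}) (hs : ∀ x ∈ f ⁻¹ᵁ V, ∃ U ∈ s, x ∈ U.1.1)
    {W : T.Opens} (hW : IsAffineOpen W) (e : W ≤ u ⁻¹ᵁ V)
    (h : @chartC _ _ f F V s Γ(T, W) _ (u.appLE V W e).hom.toAlgebra) (x : ↥(pullback f u))
    (hx : pullback.snd f u x ∈ W) :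
    FlatMod.IsFlatOverAt (pullback.snd f u) ((Scheme.Modules.pullback (pullback.fst f u)).obj F) x := by
  have hfx : pullback.fst f u x ∈ f ⁻¹ᵁ V := by
    show f (pullback.fst f u x) ∈ V
    rw [← Scheme.Hom.comp_apply, pullback.condition, Scheme.Hom.comp_apply]
    exact e hx
  obtain ⟨U, hUs, hU⟩ := hs _ hfx
  exact isFlatOverAt_of_flat_tensor (IsPullback.of_hasPullback f u) F hV U.1.2 U.2 hW e x hU hx (h U hUs)

theorem exists_charts [QuasiCompact f] {V : S.Opens} (hV : IsAffineOpen V) :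
    ∃ s : Finset {U : X.affineOpens // U.1 ≤ f ⁻¹ᵁ V}, ∀ x ∈ f ⁻¹ᵁ V, ∃ U ∈ s, x ∈ U.1.1 := by
  classical
  choose U hU hxU hle using fun x : (f ⁻¹ᵁ V : X.Opens) => exists_isAffineOpen_mem_and_subset x.2
  obtain ⟨t, ht⟩ := (f.isCompact_preimage hV.isCompact).elim_finite_subcover
    (fun x : (f ⁻¹ᵁ V : X.Opens) => (U x : Set X)) (fun x => (U x).2)
    fun x hx => Set.mem_iUnion.2 ⟨⟨x, hx⟩, hxU ⟨x, hx⟩⟩
  refine ⟨t.image fun x => ⟨⟨U x, hU x⟩, hle x⟩, fun x hx => ?_⟩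
  obtain ⟨y, hy, hxy⟩ := Set.mem_iUnion₂.1 (ht hx)
  exact ⟨_, Finset.mem_image_of_mem _ hy, hxy⟩

end GrothLib.FlatStrat
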