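import Groth.Agent.Lib.GenFree.Presentation
import Groth.Agent.Lib.Approx6.ModuleRing
import Mathlib.RingTheory.Nilpotent.Lemmas
import Mathlib.RingTheory.Ideal.MinimalPrime.Noetherian

/-! # Generic flatness chains of ideals -/

set_option autoImplicit false
set_option linter.style.haveILetI false
universe u
set_option maxHeartbeats 400000

open TensorProduct

namespace GrothLib.FlatStrat

variable {R : Type u} [CommRing R]

/-- A property of algebras over `R`. -/
abbrev AlgProp (R : Type u) [CommRing R] := ∀ (R' : Type u) [CommRing R'] [Algebra R R'], Prop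

/-- `C` holds on every algebra where `I` dies and `J` becomes the unit ideal. -/
def Piece (C : AlgProp.{u} R) (I J : Ideal R) : Prop :=
  ∀ (R' : Type u) [CommRing R'] [Algebra R R'], I.map (algebraMap R R') = ⊥ → J.map (algebraMap R R') = ⊤ → C R'

/-- One step of a chain. -/
def Step (C : AlgProp R) (I J : Ideal R) : Prop := I ≤ J ∧ I.FG ∧ J.FG ∧ Piece C I J

/-- A chain from a nilpotent ideal to the unit ideal. -/
def HasChain (C : AlgProp R) : Prop :=
  ∃ I₀ : Ideal R, I₀.FG ∧ I₀ ≤ nilradical R ∧ Relation.ReflTransGen (Step C) I₀ ⊤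

/-- `C` holds on the zero ring. -/
def ZeroOK (C : AlgProp R) : Prop := ∀ (R' : Type u) [CommRing R'] [Algebra R R'], Subsingleton R' → C R'

theorem subsingleton_of_radical_le {I J : Ideal R} (h : J ≤ I.radical) {R' : Type u} [CommRing R'] [Algebra R R']
    (hI : I.map (algebraMap R R') = ⊥) (hJ : J.map (algebraMap R R') = ⊤) : Subsingleton R' := by
  have h1 : J.map (algebraMap R R') ≤ nilradical R' :=
    (Ideal.map_mono h).trans ((Ideal.map_radical_le _).trans (by rw [hI]; rfl))
  rw [hJ, top_le_iff] at h1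
  have h2 : IsNilpotent (1 : R') := mem_nilradical.1 (h1 ▸ trivial)
  obtain ⟨n, hn⟩ := h2
  rw [one_pow] at hn
  exact subsingleton_iff_zero_eq_one.1 hn.symm

/-- Two chains refine to a chain for both properties. -/
theorem HasChain.and {C D : AlgProp R} (hC0 : ZeroOK C) (hD0 : ZeroOK D) (hC : HasChain C) (hD : HasChain D) :
    HasChain (fun R' [CommRing R'] [Algebra R R'] => C R' ∧ D R') := by
  obtain ⟨I₀, hI₀, hI₀n, hIc⟩ := hC
  obtain ⟨K₀, hK₀, hK₀n, hKc⟩ := hD
  refine ⟨I₀, hI₀, hI₀n, ?_⟩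
  clear hI₀n
  induction hIc using Relation.ReflTransGen.head_induction_on with
  | refl => exact Relation.ReflTransGen.refl
  | @head I J hIJ _ ih =>
    obtain ⟨hle, hI, hJ, hP⟩ := hIJ
    refine Relation.ReflTransGen.trans (Relation.ReflTransGen.head (b := I ⊔ K₀ * J) ?_ ?_) (ih hJ)
    · refine ⟨le_sup_left, hI, Submodule.FG.sup hI (Submodule.FG.mul hK₀ hJ), fun R' _ _ hIm hm => ?_⟩
      have hn : nilradical R ≤ I.radical := by
        intro x hx
        obtain ⟨k, hk⟩ := mem_nilradical.1 hx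
        exact ⟨k, by rw [hk]; exact zero_mem _⟩
      have hKJ : K₀ * J ≤ K₀ := Ideal.mul_le_left.trans le_rfl
      have : Subsingleton R' :=
        subsingleton_of_radical_le (sup_le Ideal.le_radical (hKJ.trans (hK₀n.trans hn))) hIm hm
      exact ⟨hC0 R' this, hD0 R' this⟩
    · suffices h : Relation.ReflTransGen (Step fun R' [CommRing R'] [Algebra R R'] => C R' ∧ D R') (I ⊔ K₀ * J) (I ⊔ ⊤ * J) by
        rwa [Ideal.top_mul, sup_eq_right.2 hle] at h
      clear hK₀n hK₀
      induction hKc using Relation.ReflTransGen.head_induction_on with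
      | refl => exact Relation.ReflTransGen.refl
      | @head K L hKL _ ih =>
        obtain ⟨hKL', hK, hL, hQ⟩ := hKL
        refine Relation.ReflTransGen.head ⟨sup_le_sup_left (Ideal.mul_mono_left hKL') _, Submodule.FG.sup hI (Submodule.FG.mul hK hJ),
          Submodule.FG.sup hI (Submodule.FG.mul hL hJ), fun R' _ _ h1 h2 => ?_⟩ ih
        rw [Ideal.map_sup, sup_eq_bot_iff, Ideal.map_mul] at h1
        rw [Ideal.map_sup, h1.1, bot_sup_eq, Ideal.map_mul] at h2
        have hJm : J.map (algebraMap R R') = ⊤ := top_le_iff.1 (h2.ge.trans Ideal.mul_le_right)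
        have hLm : L.map (algebraMap R R') = ⊤ := top_le_iff.1 (h2.ge.trans Ideal.mul_le_left)
        refine ⟨hP R' h1.1 hJm, hQ R' ?_ hLm⟩
        simpa [hJm] using h1.2

/-- Flatness of the base change of `M`. -/
def FlatC (M : Type u) [AddCommGroup M] [Module R M] : AlgProp R :=
  fun R' _ _ => Module.Flat R' (R' ⊗[R] M)

theorem zeroOK_flatC (M : Type u) [AddCommGroup M] [Module R M] : ZeroOK (FlatC (R := R) M) :=
  fun _ _ _ _ => Module.Flat.of_free

section Noetherian

variable [IsNoetherianRing R] (B M : Type u) [CommRing B] [Algebra R B] [Algebra.FiniteType R B]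
  [AddCommGroup M] [Module B M] [Module R M] [IsScalarTower R B M] [Module.Finite B M]

include B in
/-- Near one generic point of a reduced closed subscheme. -/
theorem exists_step (I : Ideal R) (hI : I.IsRadical) (hne : I ≠ ⊤) :
    ∃ g : R, g ∉ I ∧ Piece (FlatC M) I (I ⊔ Ideal.span {g}) := by
  classical
  obtain ⟨P, hP⟩ := Ideal.nonempty_minimalPrimes hne
  have hfin : I.minimalPrimes.Finite := Ideal.finite_minimalPrimes_of_isNoetherianRing R I
  haveI hPp : P.IsPrime := hP.1.1
  have hnle : ¬ (hfin.toFinset.erase P).inf id ≤ P := fun h => by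
    obtain ⟨Q, hQ, hQP⟩ := (Ideal.IsPrime.inf_le' hPp).1 h
    rw [Finset.mem_erase, hfin.mem_toFinset] at hQ
    exact hQ.1 (le_antisymm hQP (hP.2 hQ.2.1 hQP))
  obtain ⟨h, hh, hhP⟩ := Set.not_subset.1 hnle
  have hmul : ∀ p ∈ P, h * p ∈ I := fun p hp => by
    rw [← hI.radical, ← Ideal.sInf_minimalPrimes, Ideal.mem_sInf]
    intro Q hQ
    by_cases hQP : Q = P
    · exact hQP ▸ Ideal.mul_mem_left _ _ hp
    · exact Ideal.mul_mem_right _ _ (Finset.inf_le (f := id) (Finset.mem_erase.2 ⟨hQP, hfin.mem_toFinset.2 hQ⟩) hh)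
  let D := R ⧸ P
  letI : Algebra B (D ⊗[R] B) := Algebra.TensorProduct.rightAlgebra
  haveI : Module.Finite (D ⊗[R] B) ((D ⊗[R] B) ⊗[B] M) := Module.Finite.base_change B (D ⊗[R] B) M
  obtain ⟨f, -, hf, hfree, -, -, -⟩ :=
    GenFree.exists_free_and_finitePresentation (R := D) (D ⊗[R] B) ((D ⊗[R] B) ⊗[B] M) 1 one_ne_zero
  obtain ⟨f₀, rfl⟩ := Ideal.Quotient.mk_surjective f
  have hf₀ : f₀ ∉ P := fun hm => hf (Ideal.Quotient.eq_zero_iff_mem.2 hm)
  refine ⟨h * f₀, fun hm => (hPp.mem_or_mem (hP.1.2 hm)).elim hhP hf₀, fun R' _ _ hI' hg => ?_⟩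
  rw [Ideal.map_sup, hI', bot_sup_eq, Ideal.map_span, Set.image_singleton, Ideal.span_singleton_eq_top, map_mul,
    IsUnit.mul_iff] at hg
  have hPk : ∀ p ∈ P, algebraMap R R' p = 0 := fun p hp => by
    have h0 : algebraMap R R' (h * p) ∈ I.map (algebraMap R R') := Ideal.mem_map_of_mem _ (hmul p hp)
    rw [hI', Ideal.mem_bot, map_mul] at h0
    exact hg.1.mul_right_eq_zero.1 h0
  letI : Algebra D R' := (Ideal.Quotient.lift P (algebraMap R R') hPk).toAlgebra
  haveI : IsScalarTower R D R' := IsScalarTower.of_algebraMap_eq fun r => rfl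
  letI : Algebra (Localization.Away (Ideal.Quotient.mk P f₀)) R' :=
    (IsLocalization.Away.lift (Ideal.Quotient.mk P f₀) (g := algebraMap D R') hg.2).toAlgebra
  haveI : IsScalarTower D (Localization.Away (Ideal.Quotient.mk P f₀)) R' :=
    IsScalarTower.of_algebraMap_eq fun d => (IsLocalization.Away.lift_eq _ _ d).symm
  haveI := hfree
  let eM : (D ⊗[R] B) ⊗[B] M ≃ₗ[D] D ⊗[R] M := Algebra.IsPushout.cancelBaseChange R D B (D ⊗[R] B) M
  let e : R' ⊗[Localization.Away (Ideal.Quotient.mk P f₀)]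
      (Localization.Away (Ideal.Quotient.mk P f₀) ⊗[D] ((D ⊗[R] B) ⊗[B] M)) ≃ₗ[R'] R' ⊗[R] M :=
    AlgebraTensorModule.cancelBaseChange D (Localization.Away (Ideal.Quotient.mk P f₀)) R' R' _ ≪≫ₗ
      AlgebraTensorModule.congr (LinearEquiv.refl R' R') eM ≪≫ₗ
      AlgebraTensorModule.cancelBaseChange R D R' R' M
  exact Module.Flat.of_linearEquiv e.symm

include B in
/-- **Generic flatness stratification** over a Noetherian ring. -/
theorem hasChain_noetherian : HasChain (FlatC (R := R) M) := by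
  refine ⟨nilradical R, IsNoetherian.noetherian _, le_rfl, ?_⟩
  generalize nilradical R = I
  induction I using WellFoundedGT.induction with
  | _ I ih =>
    by_cases hne : I = ⊤
    · rw [hne]
    have key : ∀ J, I < J → Piece (FlatC M) I J → Relation.ReflTransGen (Step (FlatC (R := R) M)) I ⊤ :=
      fun J hJ hP => Relation.ReflTransGen.head
        ⟨hJ.le, IsNoetherian.noetherian _, IsNoetherian.noetherian _, hP⟩ (ih J hJ)
    by_cases hrad : I.IsRadical
    · obtain ⟨g, hg, hP⟩ := exists_step B M I hrad hne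
      exact key _ (left_lt_sup.2 fun hle => hg (hle (Ideal.mem_span_singleton_self g))) hP
    · exact key I.radical (lt_of_le_of_ne Ideal.le_radical fun h => hrad (Ideal.radical_eq_iff.1 h.symm))
        fun R' _ _ h1 h2 => zeroOK_flatC M R' (subsingleton_of_radical_le le_rfl h1 h2)

end Noetherian

/-- **Generic flatness stratification** for a finitely presented module over a finitely presented algebra. -/
theorem hasChain_fp (B M : Type u) [CommRing B] [Algebra R B] [Algebra.FinitePresentation R B]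
    [AddCommGroup M] [Module B M] [Module R M] [IsScalarTower R B M] [Module.FinitePresentation B M] :
    HasChain (FlatC (R := R) M) := by
  obtain ⟨A₀, _, _, B₀, _, _, e, M₀, _, _, hA₀, hB₀, hM₀, ⟨eM⟩⟩ := Approx6.exists_module_model R B M
  letI algB : Algebra B₀ B :=
    (e.toRingEquiv.toRingHom.comp Algebra.TensorProduct.includeRight.toRingHom).toAlgebra
  letI : Module A₀ M₀ := Module.compHom M₀ (algebraMap A₀ B₀)
  haveI : IsScalarTower A₀ B₀ M₀ := IsScalarTower.of_algebraMap_smul fun _ _ => rfl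
  letI : Algebra A₀ B := ((algebraMap R B).comp (algebraMap A₀ R)).toAlgebra
  haveI : IsScalarTower A₀ R B := IsScalarTower.of_algebraMap_eq fun _ => rfl
  haveI : IsScalarTower A₀ B₀ B := IsScalarTower.of_algebraMap_eq fun x => by
    show algebraMap R B (algebraMap A₀ R x) = e (1 ⊗ₜ algebraMap A₀ B₀ x)
    rw [← e.commutes]
    congr 1
    exact ((Algebra.TensorProduct.includeRight : B₀ →ₐ[A₀] R ⊗[A₀] B₀).commutes x).symm
  haveI : Algebra.IsPushout A₀ R B₀ B := ⟨IsBaseChange.of_equiv e.toLinearEquiv fun x => rfl⟩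
  let eA : M ≃ₗ[R] R ⊗[A₀] M₀ :=
    (eM.symm.restrictScalars R).trans (Algebra.IsPushout.cancelBaseChange A₀ R B₀ B M₀)
  haveI : IsNoetherianRing A₀ := Algebra.FiniteType.isNoetherianRing ℤ A₀
  obtain ⟨I₀, hI₀, hI₀n, hc⟩ := hasChain_noetherian (R := A₀) B₀ M₀
  have hstep : ∀ {I J : Ideal A₀}, Step (FlatC (R := A₀) M₀) I J →
      Step (FlatC (R := R) M) (I.map (algebraMap A₀ R)) (J.map (algebraMap A₀ R)) := by
    rintro I J ⟨hle, hI, hJ, hP⟩
    refine ⟨Ideal.map_mono hle, hI.map _, hJ.map _, fun R' _ _ h1 h2 => ?_⟩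
    letI : Algebra A₀ R' := ((algebraMap R R').comp (algebraMap A₀ R)).toAlgebra
    haveI : IsScalarTower A₀ R R' := IsScalarTower.of_algebraMap_eq fun _ => rfl
    rw [Ideal.map_map] at h1 h2
    haveI : Module.Flat R' (R' ⊗[A₀] M₀) := hP R' h1 h2
    exact Module.Flat.of_linearEquiv
      (AlgebraTensorModule.congr (LinearEquiv.refl R' R') eA ≪≫ₗ AlgebraTensorModule.cancelBaseChange A₀ R R' R' M₀)
  refine ⟨I₀.map (algebraMap A₀ R), hI₀.map _, (Ideal.map_mono hI₀n).trans ?_, ?_⟩
  · rw [Ideal.map_le_iff_le_comap]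
    exact fun x hx => mem_nilradical.2 ((mem_nilradical.1 hx).map _)
  · rw [← Ideal.map_top (algebraMap A₀ R)]
    exact hc.lift _ fun _ _ h => hstep h

end GrothLib.FlatStrat
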